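import Groth.Agent.Lib.CurveSSVanish
import Groth.Agent.CurveCohLib.Clifford
import Groth.Agent.H23.Frame

/-!
Free modules on a curve over an algebraically closed field: invariants and reduction by a functional.
-/

set_option linter.style.haveILetI false
set_option linter.unusedSectionVars false
set_option backward.isDefEq.respectTransparency false
set_option backward.isDefEq.respectTransparency.types false
set_option synthInstance.maxHeartbeats 100000

noncomputable section

universe u

open CategoryTheory CategoryTheory.Limits AlgebraicGeometry TopologicalSpace Opposite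
open Groth.Agent.PnCoh.Finite (mapLin)
open Groth.Agent.H23.Frame (proj incl incl_proj)

namespace Groth.Agent.GenusOneSS

open Groth.Agent.CurveBundle Groth.Agent.CurveSlope Groth.Agent.CurveStable Groth.Agent.CurveSpecial

variable {X : Scheme.{u}}

theorem isFinLocFreeOfRank_freeMod (n : ℕ) : FlatMod.IsFinLocFreeOfRank n (FlatMod.freeMod X n) := fun _ =>
  ⟨⊤, trivial, ⟨QCoh.freeModRestrict _ n⟩⟩

theorem isFinLocFree_freeMod (n : ℕ) : FlatMod.IsFinLocFree (FlatMod.freeMod X n) :=
  isFinLocFree_of_rank (isFinLocFreeOfRank_freeMod n)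

variable (X) in
/-- forgetting the last coordinate -/
def dropLast (n : ℕ) : FlatMod.freeMod X (n + 1) ⟶ FlatMod.freeMod X n :=
  ∑ i : Fin n, proj X (n + 1) i.castSucc ≫ incl X n i

variable (X) in
/-- adding a last coordinate -/
def addLast (n : ℕ) : FlatMod.freeMod X n ⟶ FlatMod.freeMod X (n + 1) :=
  ∑ i : Fin n, proj X n i ≫ incl X (n + 1) i.castSucc

theorem addLast_dropLast (n : ℕ) : addLast X n ≫ dropLast X n = 𝟙 _ := by
  rw [← H23.Frame.total X n, addLast, dropLast, Preadditive.sum_comp]
  refine Finset.sum_congr rfl fun i _ => ?_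
  rw [Category.assoc, Preadditive.comp_sum, Finset.sum_eq_single i]
  · rw [← Category.assoc (incl X (n + 1) i.castSucc), incl_proj, if_pos rfl, Category.id_comp]
  · intro j _ hj
    rw [← Category.assoc, incl_proj, if_neg (fun h => hj (Fin.castSucc_injective _ h).symm), zero_comp]
  · simp

theorem incl_dropLast (n : ℕ) : incl X (n + 1) (Fin.last n) ≫ dropLast X n = 0 := by
  rw [dropLast, Preadditive.comp_sum]
  refine Finset.sum_eq_zero fun j _ => ?_
  rw [← Category.assoc, incl_proj, if_neg (Fin.castSucc_lt_last j).ne', zero_comp]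

theorem total_last (n : ℕ) :
    dropLast X n ≫ addLast X n + proj X (n + 1) (Fin.last n) ≫ incl X (n + 1) (Fin.last n) = 𝟙 _ := by
  rw [← H23.Frame.total X (n + 1), Fin.sum_univ_castSucc]
  congr 1
  rw [dropLast, Preadditive.sum_comp]
  refine Finset.sum_congr rfl fun i _ => ?_
  rw [Category.assoc, addLast, Preadditive.comp_sum, Finset.sum_eq_single i]
  · rw [← Category.assoc (incl X n i), incl_proj, if_pos rfl, Category.id_comp]
  · intro j _ hj
    rw [← Category.assoc, incl_proj, if_neg (fun h => hj h.symm), zero_comp]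
  · simp

theorem shortExact_last (n : ℕ) :
    (ShortComplex.mk (incl X (n + 1) (Fin.last n)) (dropLast X n) (incl_dropLast n)).ShortExact :=
  (ShortComplex.Splitting.mk (proj X (n + 1) (Fin.last n)) (addLast X n)
    (by rw [incl_proj, if_pos rfl]) (addLast_dropLast n) ((add_comm _ _).trans (total_last n))).shortExact

variable (k : Type u) [Field k] [IsAlgClosed k] [X.Over (Spec (CommRingCat.of k))] [IsIntegral X]
  [IsProper (X ↘ Spec (CommRingCat.of k))]

include k in
theorem isCoh_freeMod (n : ℕ) : Coh.IsCoh (FlatMod.freeMod X n) := by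
  haveI := isLocallyNoetherian' k (X := X)
  exact CurveDeg.isCoh_of_isFinLocFree (isFinLocFree_freeMod n)

theorem euler_freeMod (n : ℕ) :
    Curv2.euler k X (FlatMod.freeMod X n) = n * Curv2.euler k X (Coh.structureModule X) := by
  haveI := CurveCohLib.isNoetherian_of_proper (k := k) (X := X)
  induction n with
  | zero => rw [euler_eq_zero_of_isZero k (KFlatLib.isZero_freeMod_zero)]; simp
  | succ n ih =>
    rw [euler_add' k _ _ _ (shortExact_last n) QCoh.isCoh_structureModule' (isCoh_freeMod k _) (isCoh_freeMod k _), ih]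
    push_cast
    ring

theorem finrank_h0_freeMod (n : ℕ) : Module.finrank k (Coh.HH X (FlatMod.freeMod X n) 0) = n := by
  haveI := CurveCohLib.isNoetherian_of_proper (k := k) (X := X)
  induction n with
  | zero => exact CurveCohLib.finrank_HH_zero_eq_zero_of_isZero (k := k) KFlatLib.isZero_freeMod_zero
  | succ n ih =>
    have hS := shortExact_last (X := X) n
    haveI := CurveCohLib.finite_HH (k := k) (isCoh_freeMod (X := X) k (n + 1)) 0
    have hsurj : Function.Surjective (mapLin k (dropLast X n) 0) := fun y =>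
      ⟨mapLin k (addLast X n) 0 y, (PnCoh.Finite.map_map (Y := X.toPresheafedSpace.carrier)
        (((QCoh.toAbFunctor X).map_comp (addLast X n) (dropLast X n)).symm.trans
          (by rw [addLast_dropLast, CategoryTheory.Functor.map_id]; rfl)) 0 y).trans (Sheaf.H.map_id_apply y)⟩
    have h := LinearMap.finrank_range_add_finrank_ker (mapLin k (dropLast X n) 0)
    rw [LinearMap.range_eq_top.2 hsurj, finrank_top, ih] at h
    have e1 := CurveCohLib.ker_mapLin_g k hS 0
    have e2 := LinearMap.finrank_range_of_inj (CurveCohLib.mapLin_f_zero_injective k hS)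
    have e3 := (congrArg (fun S : Submodule k _ => Module.finrank k S) e1).trans e2
    have e4 := CurveCohLib.Clifford.finrank_h0_structure k (X := X)
    dsimp only at e3
    rw [e3, e4] at h
    omega

variable [Smooth (X ↘ Spec (CommRingCat.of k))]

include k in
/-- A functional killing a map into a free module lowers the number of coordinates. -/
theorem exists_reduce (hdim : topologicalKrullDim X = 1) {n : ℕ} {G : X.Modules} (f : G ⟶ FlatMod.freeMod X n)
    (lam : FlatMod.freeMod X n ⟶ Coh.structureModule X) (hlam : lam ≠ 0) (hf : f ≫ lam = 0) :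
    ∃ (m : ℕ) (ι : FlatMod.freeMod X m ⟶ FlatMod.freeMod X n) (g : G ⟶ FlatMod.freeMod X m),
      m < n ∧ Mono ι ∧ g ≫ ι = f := by
  classical
  obtain ⟨i₀, hi₀⟩ : ∃ i, incl X n i ≫ lam ≠ 0 := by
    by_contra h
    push Not at h
    refine hlam ?_
    rw [← Category.id_comp lam, ← H23.Frame.total X n, Preadditive.sum_comp]
    exact Finset.sum_eq_zero fun i _ => by rw [Category.assoc, h i, comp_zero]
  haveI := (CurveDeg.deg_le_and_isIso k hdim.le CurveDeg.isInvertible_structureModule
    CurveDeg.isInvertible_structureModule _ hi₀).2 rfl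
  cases n with
  | zero => exact i₀.elim0
  | succ m =>
    let c := inv (incl X (m + 1) i₀ ≫ lam)
    let ρ : FlatMod.freeMod X (m + 1) ⟶ FlatMod.freeMod X m :=
      ∑ a : Fin m, proj X (m + 1) (i₀.succAbove a) ≫ incl X m a
    let ι : FlatMod.freeMod X m ⟶ FlatMod.freeMod X (m + 1) :=
      ∑ a : Fin m, proj X m a ≫
        (incl X (m + 1) (i₀.succAbove a) - (incl X (m + 1) (i₀.succAbove a) ≫ lam) ≫ c ≫ incl X (m + 1) i₀)
    have hid : ρ ≫ ι + lam ≫ c ≫ incl X (m + 1) i₀ = 𝟙 _ := by
      have h1 : ρ ≫ ι = ∑ a : Fin m, proj X (m + 1) (i₀.succAbove a) ≫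
          (incl X (m + 1) (i₀.succAbove a) - (incl X (m + 1) (i₀.succAbove a) ≫ lam) ≫ c ≫ incl X (m + 1) i₀) := by
        simp only [ρ, Preadditive.sum_comp]
        refine Finset.sum_congr rfl fun a _ => ?_
        rw [Category.assoc]
        congr 1
        simp only [ι, Preadditive.comp_sum]
        rw [Finset.sum_eq_single a]
        · rw [← Category.assoc (incl X m a), incl_proj, if_pos rfl, Category.id_comp]
        · intro j _ hj
          rw [← Category.assoc, incl_proj, if_neg (fun h => hj h.symm), zero_comp]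
        · simp
      have h2 : lam = ∑ i, proj X (m + 1) i ≫ incl X (m + 1) i ≫ lam := by
        conv_lhs => rw [← Category.id_comp lam, ← H23.Frame.total X (m + 1), Preadditive.sum_comp]
        simp only [Category.assoc]
      have h3 : lam ≫ c ≫ incl X (m + 1) i₀ =
          ∑ i, proj X (m + 1) i ≫ (incl X (m + 1) i ≫ lam) ≫ c ≫ incl X (m + 1) i₀ := by
        conv_lhs => rw [h2, Preadditive.sum_comp]
        simp only [Category.assoc]
      rw [h1, h3, Fin.sum_univ_succAbove _ i₀, ← H23.Frame.total X (m + 1), Fin.sum_univ_succAbove _ i₀]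
      have h4 : (incl X (m + 1) i₀ ≫ lam) ≫ c ≫ incl X (m + 1) i₀ = incl X (m + 1) i₀ := by
        rw [← Category.assoc, IsIso.hom_inv_id, Category.id_comp]
      rw [h4]
      refine (add_left_comm _ _ _).trans (congrArg₂ (· + ·) rfl ?_)
      refine Finset.sum_add_distrib.symm.trans ?_
      exact Finset.sum_congr rfl fun a _ => by rw [← Preadditive.comp_add, sub_add_cancel]
    have hιρ : ι ≫ ρ = 𝟙 _ := by
      rw [← H23.Frame.total X m]
      simp only [ι, Preadditive.sum_comp]
      refine Finset.sum_congr rfl fun a _ => ?_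
      rw [Category.assoc]
      congr 1
      simp only [ρ, Preadditive.comp_sum]
      rw [Finset.sum_eq_single a]
      · rw [← Category.assoc, Preadditive.sub_comp, incl_proj, if_pos rfl]
        simp [incl_proj, (Fin.succAbove_ne i₀ a).symm]
      · intro j _ hj
        rw [← Category.assoc, Preadditive.sub_comp, incl_proj,
          if_neg (fun h => hj (Fin.succAbove_right_injective h).symm)]
        simp [incl_proj, (Fin.succAbove_ne i₀ j).symm]
      · simp
    refine ⟨m, ι, f ≫ ρ, Nat.lt_succ_self m, ?_, ?_⟩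
    · haveI : IsSplitMono ι := IsSplitMono.mk' ⟨ρ, hιρ⟩
      infer_instance
    · have h5 := congrArg (f ≫ ·) hid
      simp only [Preadditive.comp_add, Category.comp_id] at h5
      rw [← Category.assoc f lam, hf, zero_comp, add_zero, ← Category.assoc] at h5
      exact h5

/-- maps out of a free module injective on global sections -/
def Inj0 {n : ℕ} {F : X.Modules} (ε : FlatMod.freeMod X n ⟶ F) : Prop :=
  ∀ ψ : Coh.structureModule X ⟶ FlatMod.freeMod X n, ψ ≫ ε = 0 → ψ = 0

theorem Inj0.comp {n m : ℕ} {F : X.Modules} {ε : FlatMod.freeMod X n ⟶ F} (h : Inj0 ε)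
    (ι : FlatMod.freeMod X m ⟶ FlatMod.freeMod X n) [Mono ι] : Inj0 (ι ≫ ε) := fun ψ hψ =>
  (cancel_mono ι).1 ((h (ψ ≫ ι) (by rwa [Category.assoc])).trans zero_comp.symm)

omit [Smooth (X ↘ Spec (CommRingCat.of k))] in
theorem finrank_h0_kernel {n : ℕ} {F : X.Modules} {ε : FlatMod.freeMod X n ⟶ F} (h : Inj0 ε) :
    Module.finrank k (Coh.HH X (kernel ε) 0) = 0 := by
  by_contra h0
  obtain ⟨s, hs⟩ := CurveRR.exists_hom_ne_zero k h0
  exact hs ((cancel_mono (kernel.ι ε)).1 ((h _ (by rw [Category.assoc, kernel.condition, comp_zero])).trans zero_comp.symm))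

end Groth.Agent.GenusOneSS
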