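import Groth.Agent.GenusOneSS.Free
import Groth.Agent.CurveCohLib.PointTwist

/-!
The evaluation map of the global sections.
-/

set_option linter.style.haveILetI false
set_option linter.unusedSectionVars false
set_option backward.isDefEq.respectTransparency false
set_option backward.isDefEq.respectTransparency.types false
set_option synthInstance.maxHeartbeats 100000

noncomputable section

universe u

open CategoryTheory CategoryTheory.Limits AlgebraicGeometry TopologicalSpace Opposite
open Groth.Agent.PnCoh.Finite (mapLin)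

namespace Groth.Agent.GenusOneSS

open Groth.Agent.CurveBundle Groth.Agent.CurveSlope Groth.Agent.CurveStable Groth.Agent.CurveSpecial

variable {X : Scheme.{u}} (k : Type u) [Field k] [X.Over (Spec (CommRingCat.of k))]

/-- the class of a map out of the structure sheaf -/
def toH {M : X.Modules} (ψ : Coh.structureModule X ⟶ M) : Coh.HH X M 0 :=
  (Sheaf.H.equiv₀ (Coh.toAb M) isTerminalTop).symm (ψ.app ⊤ (H23.Frame.one ⊤))

theorem toH_homOfClass {M : X.Modules} (t : Coh.HH X M 0) : toH (homOfClass t) = t := by
  rw [toH, homOfClass_one]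
  exact AddEquiv.symm_apply_apply _ _

theorem toH_injective {M : X.Modules} {ψ φ : Coh.structureModule X ⟶ M} (h : toH ψ = toH φ) : ψ = φ :=
  CurveRR.hom_ext_one ((Sheaf.H.equiv₀ (Coh.toAb M) isTerminalTop).symm.injective h)

theorem toH_comp {M N : X.Modules} (ψ : Coh.structureModule X ⟶ M) (g : M ⟶ N) :
    mapLin k g 0 (toH ψ) = toH (ψ ≫ g) := by
  refine (Sheaf.H.equiv₀ (Coh.toAb N) isTerminalTop).injective ?_
  refine Eq.trans ?_ (AddEquiv.apply_symm_apply _ _).symm
  refine (Sheaf.H.equiv₀_naturality isTerminalTop ((QCoh.toAbFunctor X).map g) _).symm.trans ?_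
  exact congrArg (g.app ⊤) (AddEquiv.apply_symm_apply _ _)

variable [IsAlgClosed k] [IsIntegral X] [IsProper (X ↘ Spec (CommRingCat.of k))]

include k in
/-- The evaluation map of the global sections is bijective on them, and epi for a globally generated module. -/
theorem exists_eval {F : X.Modules} (hF : Coh.IsCoh F) (hgg : Curv2.IsGloballyGenerated F) :
    ∃ ε : FlatMod.freeMod X (Module.finrank k (Coh.HH X F 0)) ⟶ F, Inj0 ε ∧ Epi ε := by
  classical
  haveI := CurveCohLib.isNoetherian_of_proper (k := k) (X := X)
  haveI := CurveCohLib.finite_HH (k := k) hF 0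
  let n := Module.finrank k (Coh.HH X F 0)
  haveI := CurveCohLib.finite_HH (k := k) (isCoh_freeMod (X := X) k n) 0
  let β := Module.finBasis k (Coh.HH X F 0)
  let ε : FlatMod.freeMod X n ⟶ F := Sigma.desc fun i => homOfClass (β i)
  have hβ : ∀ i, mapLin k ε 0 (toH (H23.Frame.incl X n i)) = β i := fun i => by
    rw [toH_comp, show H23.Frame.incl X n i ≫ ε = homOfClass (β i) from Sigma.ι_desc _ _, toH_homOfClass]
  have hsurj : Function.Surjective (mapLin k ε 0) := by
    rw [← LinearMap.range_eq_top, eq_top_iff, ← β.span_eq, Submodule.span_le]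
    rintro _ ⟨i, rfl⟩
    exact ⟨_, hβ i⟩
  have hinj : Function.Injective (mapLin k ε 0) :=
    (LinearMap.injective_iff_surjective_of_finrank_eq_finrank (finrank_h0_freeMod k n)).2 hsurj
  refine ⟨ε, fun ψ hψ => toH_injective (hinj ?_), Preadditive.epi_of_cancel_zero _ fun g hg => ?_⟩
  · rw [toH_comp, toH_comp, hψ, zero_comp]
  · refine CurveCohLib.PointTwist.eq_zero_of_gg k hgg g fun t => ?_
    obtain ⟨s, rfl⟩ := hsurj t
    refine (PnCoh.Finite.map_map (Y := X.toPresheafedSpace.carrier)
      (((QCoh.toAbFunctor X).map_comp ε g).symm.trans (by rw [hg])) 0 s).trans (CurveDuality.mapLin_zero k 0 s)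

end Groth.Agent.GenusOneSS
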