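import Groth.Agent.SheafHomY.Bidual
import Groth.Agent.SheafHomY.Ext
import Groth.Agent.SheafHomX.Extra
import Groth.Agent.Lib.CurveCanonical
import Groth.Agent.Lib.CurveSSVanish

/-!
Extensions of bundles on a genus one curve split when there is no map from the subbundle to the quotient;
in particular indecomposable bundles are semistable.
-/

set_option linter.style.haveILetI false
set_option linter.unusedSectionVars false
set_option backward.isDefEq.respectTransparency false
set_option backward.isDefEq.respectTransparency.types false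
set_option synthInstance.maxHeartbeats 100000

noncomputable section

universe u

open CategoryTheory CategoryTheory.Limits AlgebraicGeometry TopologicalSpace Opposite
open Groth.Agent.PnCoh.Finite (mapLin)

namespace Groth.Agent.GenusOneSS

open Groth.Agent.CurveBundle Groth.Agent.CurveSlope Groth.Agent.CurveStable Groth.Agent.CurveSpecial
open Groth.Agent.SheafHomX (hom adj ten ev)

variable {X : Scheme.{u}} (k : Type u) [Field k] [X.Over (Spec (CommRingCat.of k))]
  [IsIntegral X] [IsProper (X ↘ Spec (CommRingCat.of k))] [Smooth (X ↘ Spec (CommRingCat.of k))]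
  (hdim : topologicalKrullDim X = 1) (hg : Curv2.genus k X = 1)
  (hO : Module.finrank k (Coh.HH X (Coh.structureModule X) 0) = 1)

include k hdim hg hO in
/-- Extensions split when the subbundle does not map to the quotient. -/
theorem isSplitEpi_of_hom_eq_zero {S : ShortComplex X.Modules} (hS : S.ShortExact)
    (hA : FlatMod.IsFinLocFree S.X₁) (hQ : FlatMod.IsFinLocFree S.X₃)
    (h : ∀ φ : S.X₁ ⟶ S.X₃, φ = 0) : IsSplitEpi S.g := by
  haveI := CurveCohLib.isNoetherian_of_proper (k := k) (X := X)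
  haveI := SheafHomY.preservesFiniteColimits_hom hQ
  haveI := SheafHomY.preservesFiniteLimits_hom S.X₃
  have hS' := hS.map_of_exact (hom S.X₃)
  obtain ⟨ω, μ, hω⟩ := CurveDuality.exists_isDualizing k hdim
  obtain ⟨e⟩ := CurveDuality.nonempty_iso_of_genus_one k hO hω hdim hg
  have hH : FlatMod.IsFinLocFree ((hom S.X₃).obj S.X₁) := SheafHomX.isFinLocFree_hom hQ hA
  have h1 : Subsingleton (Coh.HH X ((hom S.X₃).obj S.X₁) 1) := by
    refine (CurveDuality.subsingleton_HH_one_iff k hω hdim hH).2 fun φ => ?_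
    haveI := SheafHomY.isIso_theta hQ S.X₁
    let t : (ten (SheafHomY.dual S.X₃)).obj S.X₁ ⟶ Coh.structureModule X :=
      SheafHomY.theta S.X₃ S.X₁ ≫ φ ≫ e.inv
    have ht0 : t = 0 := (SheafHomY.homDualEquiv hQ S.X₁).injective ((h _).trans (h _).symm)
    have h2 : φ ≫ e.inv = 0 := (cancel_epi (SheafHomY.theta S.X₃ S.X₁)).1 (ht0.trans comp_zero.symm)
    exact (cancel_mono e.inv).1 (h2.trans zero_comp.symm)
  obtain ⟨ψ, hψ⟩ := CurveRR.exists_lift_of_HH_one hS' h1 ((ev S.X₃ S.X₃).symm (𝟙 S.X₃))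
  refine IsSplitEpi.mk' ⟨ev S.X₃ S.X₂ ψ, ?_⟩
  rw [← SheafHomX.ev_naturality]
  exact (congrArg (ev S.X₃ S.X₃) hψ).trans ((ev S.X₃ S.X₃).apply_symm_apply _)

include k hdim in
/-- A map out of a semistable bundle to one of smaller slopes vanishes. -/
theorem hom_eq_zero_of_slopes {A B : X.Modules} (hA : FlatMod.IsFinLocFree A) (hB : FlatMod.IsFinLocFree B)
    (hAss : ∀ (G : X.Modules) (i : G ⟶ A), Mono i → FlatMod.IsFinLocFree G → dg k G * (rk A : ℤ) ≤ dg k A * (rk G : ℤ))
    (hBlt : ∀ (G : X.Modules) (i : G ⟶ B), Mono i → FlatMod.IsFinLocFree G → 0 < rk G →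
      dg k G * (rk A : ℤ) < dg k A * (rk G : ℤ))
    (φ : A ⟶ B) : φ = 0 := by
  by_contra hφ
  obtain ⟨I, π, j, hj, hπ, hfac, hK, hI, hr, hd, hpos, -⟩ := exists_decomp k hdim.le hA hB φ
  have h1 := hAss _ (kernel.ι φ) inferInstance hK
  have h2 := hBlt I j hj hI (hpos hφ)
  have hr' : (rk A : ℤ) = rk (kernel φ) + rk I := by exact_mod_cast hr
  rw [hd, hr'] at h1 h2
  nlinarith

include k hdim hg hO in
/-- Indecomposable bundles are semistable. -/
theorem semistable_of_indecomposable {E : X.Modules} {r : ℕ} (hr0 : 0 < r)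
    (hE : FlatMod.IsFinLocFreeOfRank r E)
    (hind : ∀ (E₁ E₂ : X.Modules), Nonempty (E ≅ E₁ ⊞ E₂) → IsZero E₁ ∨ IsZero E₂)
    (G : X.Modules) (i : G ⟶ E) [Mono i] (hG : FlatMod.IsFinLocFree G) :
    dg k G * (r : ℤ) ≤ dg k E * (rk G : ℤ) := by
  haveI := CurveCohLib.isNoetherian_of_proper (k := k) (X := X)
  have hEf := isFinLocFree_of_rank hE
  have hEc := coh_of_free k hEf
  have hrE := rk_eq hE
  obtain ⟨E₁, i₁, hi₁, ha, hE₁, hmax⟩ := exists_max_slope k hdim.le hr0 hE
  haveI := hi₁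
  have hEm := (hmax E (𝟙 E) inferInstance hEf (by omega)).1
  rw [hrE] at hEm
  -- it suffices that the whole bundle attains the maximal slope
  suffices hkey : dg k E₁ * (r : ℤ) ≤ dg k E * (rk E₁ : ℤ) by
    rcases Nat.eq_zero_or_pos (rk G) with h0 | h0
    · rw [dg_eq_zero_of_isZero k (isZero_of_rk_zero hG h0), h0]; simp
    · have h1 := (hmax G i inferInstance hG h0).1
      have haz : (0 : ℤ) < rk E₁ := by exact_mod_cast ha
      nlinarith [mul_le_mul_of_nonneg_right h1 (Int.natCast_nonneg r),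
        mul_le_mul_of_nonneg_right hkey (Int.natCast_nonneg (rk G))]
  by_contra hlt
  push Not at hlt
  have hE₁c := coh_of_free k hE₁
  have hQc : Coh.IsCoh (cokernel i₁) := QCoh.isCoh_cokernel hE₁c.1 hEc i₁
  have hS := shortExact_cokernel_of_mono i₁
  have hQ := isFinLocFree_of_max k hdim.le i₁ (cokernel.π i₁) _ hS hE₁c hEf hQc fun F g hgm hF hrF => by
    have h1 := (hmax F g hgm hF (by omega)).1
    rw [hrF] at h1
    exact le_of_mul_le_mul_right h1 (by exact_mod_cast ha)
  have hsum := rk_add_coh k _ _ _ hS hEc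
  have hra : rk E₁ < r := by
    refine lt_of_le_of_ne ((rk_le_of_mono k i₁ hEc).trans hrE.le) fun heq => ?_
    rw [heq] at hlt
    by_cases hi : IsIso i₁
    · haveI := hi
      rw [dg_congr k (asIso i₁)] at hlt
      exact lt_irrefl _ hlt
    · have h2 := dg_lt_of_rk_eq k hdim.le i₁ hE₁c hEc (by omega) hi
      nlinarith [Int.natCast_nonneg r]
  have hzero : ∀ φ : E₁ ⟶ cokernel i₁, φ = 0 := by
    refine hom_eq_zero_of_slopes k hdim hE₁ hQ (fun F f hf hF => ?_) fun F f hf hF hF0 => ?_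
    · rcases Nat.eq_zero_or_pos (rk F) with h0 | h0
      · rw [dg_eq_zero_of_isZero k (isZero_of_rk_zero hF h0), h0]; simp
      · exact (hmax F (f ≫ i₁) (mono_comp f i₁) hF h0).1
    · haveI := hf
      obtain ⟨P, p, hp, hP, hrP, hdP⟩ := exists_preimage k hdim.le i₁ (cokernel.π i₁) _ hS hE₁c hEf hQc f
        (coh_of_free k hF)
      obtain ⟨h1, h2⟩ := hmax P p hp hP (by omega)
      have hrP' : (rk P : ℤ) = rk E₁ + rk F := by exact_mod_cast hrP
      rw [hdP, hrP'] at h1 h2
      by_contra hge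
      push Not at hge
      have := h2 (le_antisymm h1 (by linarith))
      omega
  haveI := isSplitEpi_of_hom_eq_zero k hdim hg hO hS hE₁ hQ hzero
  obtain ⟨e⟩ : Nonempty (E ≅ E₁ ⊞ cokernel i₁) :=
    ⟨(ShortComplex.Splitting.ofExactOfSection _ hS.exact (section_ (cokernel.π i₁)) (IsSplitEpi.id _) hS.mono_f).isoBinaryBiproduct⟩
  rcases hind _ _ ⟨e⟩ with hz | hz
  · rw [rk_eq_zero_of_isZero hz] at ha; exact lt_irrefl _ ha
  · rw [rk_eq_zero_of_isZero hz] at hsum; omega

end Groth.Agent.GenusOneSS
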