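import Groth.Agent.GenusOneSS.Split
import Groth.Agent.CurveTwistBC.Basic
import Groth.Agent.Lib.TwistSumInv
import Groth.Agent.H23.PicMul
import Groth.Agent.Lib.RegEpiGen

/-!
Semistable bundles on a genus one curve with a rational point embed into sums of copies of line bundles of
slightly larger degree. No hypothesis on the base field.
-/

set_option linter.style.haveILetI false
set_option linter.unusedSectionVars false
set_option backward.isDefEq.respectTransparency false
set_option backward.isDefEq.respectTransparency.types false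
set_option synthInstance.maxHeartbeats 100000
set_option maxHeartbeats 1600000

noncomputable section

universe u

open CategoryTheory CategoryTheory.Limits AlgebraicGeometry TopologicalSpace Opposite

namespace Groth.Agent.GenusOneSS

open Groth.Agent.CurveBundle Groth.Agent.CurveSlope Groth.Agent.CurveStable Groth.Agent.CurvePoint
open Groth.Agent.SheafHomX (hom homMap adj ten ev)
open Groth.Agent.PnCoh.Finite (mapLin)
open Groth.Agent.RegEpi

variable {X : Scheme.{u}}

theorem tenUnitIso_naturality {M M' : X.Modules} (g : M ⟶ M') :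
    ((DCoh.tensorBi (X := X)).flip.map g).app (Coh.structureModule X) ≫ (SheafHomX.tenUnitIso M').hom =
      (SheafHomX.tenUnitIso M).hom ≫ g := by
  have h1 := congr_app ((KFlatLib.tensorBiFlipIso X).hom.naturality g) (Coh.structureModule X)
  have h2 := (KFlatLib.tensorStructureIso X).hom.naturality g
  simp only [SheafHomX.tenUnitIso, Iso.trans_hom, Iso.app_hom, NatTrans.comp_app, Category.assoc] at h1 h2 ⊢
  rw [reassoc_of% h1]
  exact congrArg (_ ≫ ·) h2

/-- Evaluation is natural in the source. -/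
theorem ev_homMap {M M' N : X.Modules} (g : M ⟶ M') (x : Coh.structureModule X ⟶ (hom M').obj N) :
    ev M N (x ≫ (homMap g).app N) = g ≫ ev M' N x := by
  show (SheafHomX.tenUnitIso M).inv ≫ ((adj M).homEquiv _ _).symm _ = g ≫ (SheafHomX.tenUnitIso M').inv ≫ _
  rw [SheafHomX.homEquiv_homMap, ← Category.assoc, ← Category.assoc]
  refine congrArg (· ≫ _) ?_
  rw [Iso.inv_comp_eq, ← Category.assoc, Iso.eq_comp_inv, tenUnitIso_naturality]

theorem mono_homMap {M M' : X.Modules} (g : M ⟶ M') [Epi g] (N : X.Modules) :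
    ∃ ψ : (hom M').obj N ⟶ (hom M).obj N, Mono ψ := by
  haveI : Epi (ShortComplex.mk (kernel.ι g) g (kernel.condition g)).g := ‹Epi g›
  obtain ⟨e⟩ := SheafHomX.exists_kernel_iso
    (S := ShortComplex.mk (kernel.ι g) g (kernel.condition g)) (shortExact_kernel_of_epi g).exact N
  exact ⟨e.hom ≫ kernel.ι _, inferInstance⟩

open Groth.Agent.SheafHomX in
theorem isFinLocFreeOfRank_hom {E E' : X.Modules} {a b : ℕ} (hE : FlatMod.IsFinLocFreeOfRank a E)
    (hE' : FlatMod.IsFinLocFreeOfRank b E') : FlatMod.IsFinLocFreeOfRank (a * b) ((hom E).obj E') := by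
  intro x
  obtain ⟨U, hxU, ⟨e⟩⟩ := hE x
  obtain ⟨V, hxV, ⟨e'⟩⟩ := hE' x
  let W : X.Opens := U ⊓ V
  have eW : (E.restrict W.ι) ≅ FlatMod.freeMod W a := KFlatLib.restrictFreeIso inf_le_left e
  have eW' : (E'.restrict W.ι) ≅ FlatMod.freeMod W b := KFlatLib.restrictFreeIso inf_le_right e'
  let T : ULift.{u} (Fin a) → (W : Scheme.{u}).Modules := fun _ => Coh.structureModule W
  let T' : ULift.{u} (Fin b) → (W : Scheme.{u}).Modules := fun _ => Coh.structureModule W
  let f : FlatMod.freeMod W a ≅ ⨁ T :=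
    QCoh.freeModIso _ a ≪≫ (biproduct.isoCoproduct T).symm
  let f' : FlatMod.freeMod W b ≅ ⨁ T' :=
    QCoh.freeModIso _ b ≪≫ (biproduct.isoCoproduct T').symm
  let g : E.restrict W.ι ≅ ⨁ T := eW ≪≫ f
  let c : (hom (E.restrict W.ι)).obj (E'.restrict W.ι) ≅ (hom (⨁ T)).obj (E'.restrict W.ι) :=
    { hom := (homMap g.inv).app _
      inv := (homMap g.hom).app _
      hom_inv_id := by rw [← homMap_comp, Iso.hom_inv_id, homMap_id]
      inv_hom_id := by rw [← homMap_comp, Iso.inv_hom_id, homMap_id] }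
  let d : (hom (⨁ T)).obj (E'.restrict W.ι) ≅ ⨁ fun _ : ULift.{u} (Fin a) => E'.restrict W.ι :=
    homBiproductIso T _ ≪≫ biproduct.mapIso fun _ => (unitIso _).app _
  let q : (⨁ fun _ : ULift.{u} (Fin a) => E'.restrict W.ι) ≅ ∐ fun _ : ULift.{u} (Fin a) => FlatMod.freeMod W b :=
    biproduct.isoCoproduct _ ≪≫ Sigma.mapIso fun _ => eW'
  let s : (∐ fun _ : ULift.{u} (Fin a) => FlatMod.freeMod W b) ≅
      ∐ fun p : Σ _ : ULift.{u} (Fin a), ULift.{u} (Fin b) => Coh.structureModule W :=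
    Sigma.mapIso (fun _ => QCoh.freeModIso _ b) ≪≫ sigmaSigmaIso (fun _ : ULift.{u} (Fin a) => ULift.{u} (Fin b)) (fun _ _ => Coh.structureModule W)
  let r : (∐ fun p : Σ _ : ULift.{u} (Fin a), ULift.{u} (Fin b) => Coh.structureModule W) ≅ FlatMod.freeMod W (a * b) :=
    (Sigma.whiskerEquiv (f := fun _ : Σ _ : ULift.{u} (Fin a), ULift.{u} (Fin b) => Coh.structureModule W)
      (g := fun _ : ULift.{u} (Fin (a * b)) => Coh.structureModule W)
      (((Equiv.sigmaEquivProd _ _).trans (Equiv.prodCongr Equiv.ulift Equiv.ulift)).trans (finProdFinEquiv.trans Equiv.ulift.symm))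
      (fun _ => Iso.refl _)) ≪≫ (QCoh.freeModIso _ (a * b)).symm
  exact ⟨W, ⟨hxU, hxV⟩, ⟨(restrictIso W.ι E).app E' ≪≫ c ≪≫ d ≪≫ q ≪≫ s ≪≫ r⟩⟩

theorem isFinLocFreeOfRank_sigma {L : X.Modules} (hL : PicF.IsInvertible L) (n : ℕ) :
    FlatMod.IsFinLocFreeOfRank n (∐ fun _ : Fin n => L) := fun x => by
  obtain ⟨U, hx, ⟨e⟩⟩ := hL x
  haveI := (Scheme.Modules.restrictAdjunction U.ι).leftAdjoint_preservesColimits
  exact ⟨U, hx, ⟨(PreservesCoproduct.iso (Scheme.Modules.restrictFunctor U.ι) fun _ : Fin n => L) ≪≫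
    Sigma.mapIso fun _ => e⟩⟩

variable (k : Type u) [Field k] [X.Over (Spec (CommRingCat.of k))]
  [IsIntegral X] [IsProper (X ↘ Spec (CommRingCat.of k))] [Smooth (X ↘ Spec (CommRingCat.of k))]

theorem exists_rational_pt (σ : Spec (CommRingCat.of k) ⟶ X)
    (hσ : σ ≫ (X ↘ Spec (CommRingCat.of k)) = 𝟙 _) :
    ∃ (p : X) (hp : IsClosed ({p} : Set X)), Curv2.euler k X (ClSub.quotMod (ptIdeal p hp)) = 1 := by
  haveI : IsClosedImmersion (σ ≫ (X ↘ Spec (CommRingCat.of k))) := by rw [hσ]; infer_instance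
  haveI : IsClosedImmersion σ := IsClosedImmersion.of_comp σ (X ↘ Spec (CommRingCat.of k))
  have hp : IsClosed ({σ (IsLocalRing.closedPoint k)} : Set X) := by
    rw [← Set.image_singleton]
    exact σ.isClosedEmbedding.isClosedMap _ (IsLocalRing.isClosed_singleton_closedPoint k)
  exact ⟨_, hp, CurveTwistBC.euler_quot_pt _ hp (CurveTwistBC.sub_mem_of_section σ hσ)⟩

variable (hdim : topologicalKrullDim X = 1)
include hdim

theorem deg_ptMod_of_euler {p : X} {hp : IsClosed ({p} : Set X)}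
    (he : Curv2.euler k X (ClSub.quotMod (ptIdeal p hp)) = 1) : Curv2.deg k X (ptMod p hp) 1 = -1 := by
  haveI := CurveCohLib.isNoetherian_of_proper (k := k) (X := X)
  have h := euler_add' k _ _ _ (shortExact_pt p hp) (isCoh_ptMod p hp k)
    QCoh.isCoh_structureModule' (isCoh_quot p hp k)
  rw [he] at h
  unfold Curv2.deg
  push_cast
  linarith

theorem dg_structure : dg k (Coh.structureModule X) = 0 := by
  rw [dg, rk_eq (InvEnd.isFinLocFreeOfRank_one CurveDeg.isInvertible_structureModule)]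
  simp

/-- On a curve with a rational point there are invertible modules of all degrees. -/
theorem exists_line_deg (σ : Spec (CommRingCat.of k) ⟶ X)
    (hσ : σ ≫ (X ↘ Spec (CommRingCat.of k)) = 𝟙 _) (d : ℤ) :
    ∃ L : X.Modules, PicF.IsInvertible L ∧ dg k L = d := by
  haveI := CurveCohLib.isNoetherian_of_proper (k := k) (X := X)
  obtain ⟨p, hp, he⟩ := exists_rational_pt k σ hσ
  have hI := isInvertible_ptMod p hp k hdim
  have hId : dg k (ptMod p hp) = -1 := by
    rw [← deg_eq_dg k (InvEnd.isFinLocFreeOfRank_one hI), deg_ptMod_of_euler k hdim he]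
  obtain ⟨D, hD, ⟨e⟩⟩ := H23.PicInv.exists_inverse hI
  have hDd : dg k D = 1 := by
    obtain ⟨h1, h2⟩ := CurveDuality.dg_tensor_line k hdim hI (isFinLocFree_of_rank (InvEnd.isFinLocFreeOfRank_one hD))
    change dg k (CohB1.tensorMod (ptMod p hp) D) = _ at h2
    rw [dg_congr k e, rk_eq (InvEnd.isFinLocFreeOfRank_one hD),
      deg_eq_dg k (InvEnd.isFinLocFreeOfRank_one hI), hId, dg_structure k hdim] at h2
    push_cast at h2
    linarith
  have hpow : ∀ {A : X.Modules}, PicF.IsInvertible A → ∀ n : ℕ, dg k (CohB1.tensorPow A n) = n * dg k A := by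
    intro A hA n
    induction n with
    | zero => rw [Nat.cast_zero, zero_mul]; exact dg_structure k hdim
    | succ n ih =>
      obtain ⟨-, h2⟩ := CurveDuality.dg_tensor_line k hdim (H23.PicMul.isInvertible_tensorPow hA n)
        (isFinLocFree_of_rank (InvEnd.isFinLocFreeOfRank_one hA))
      show dg k ((DCoh.tensorBi.obj (CohB1.tensorPow A n)).obj A) = _
      rw [h2, rk_eq (InvEnd.isFinLocFreeOfRank_one hA),
        deg_eq_dg k (InvEnd.isFinLocFreeOfRank_one (H23.PicMul.isInvertible_tensorPow hA n)), ih]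
      push_cast
      ring
  rcases Int.eq_nat_or_neg d with ⟨n, rfl | rfl⟩
  · exact ⟨_, H23.PicMul.isInvertible_tensorPow hD n, by rw [hpow hD, hDd, mul_one]⟩
  · exact ⟨_, H23.PicMul.isInvertible_tensorPow hI n, by rw [hpow hI, hId, mul_neg_one]⟩

variable (hg : Curv2.genus k X = 1) (hO : Module.finrank k (Coh.HH X (Coh.structureModule X) 0) = 1)

include hg hO in
theorem subsingleton_h1_hom {A Q : X.Modules} (hA : FlatMod.IsFinLocFree A) (hQ : FlatMod.IsFinLocFree Q)
    (h : ∀ φ : A ⟶ Q, φ = 0) : Subsingleton (Coh.HH X ((hom Q).obj A) 1) := by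
  obtain ⟨ω, μ, hω⟩ := CurveDuality.exists_isDualizing k hdim
  obtain ⟨e⟩ := CurveDuality.nonempty_iso_of_genus_one k hO hω hdim hg
  refine (CurveDuality.subsingleton_HH_one_iff k hω hdim (SheafHomX.isFinLocFree_hom hQ hA)).2 fun φ => ?_
  haveI := SheafHomY.isIso_theta hQ A
  let t : (ten (SheafHomY.dual Q)).obj A ⟶ Coh.structureModule X := SheafHomY.theta Q A ≫ φ ≫ e.inv
  have ht0 : t = 0 := (SheafHomY.homDualEquiv hQ A).injective ((h _).trans (h _).symm)
  have h2 : φ ≫ e.inv = 0 := (cancel_epi (SheafHomY.theta Q A)).1 (ht0.trans comp_zero.symm)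
  exact (cancel_mono e.inv).1 (h2.trans zero_comp.symm)

/-- Twisting the target down by a rational point: the quotient of the Hom sheaves has length the rank. -/
theorem exists_hom_quot {p : X} {hp : IsClosed ({p} : Set X)}
    (he : Curv2.euler k X (ClSub.quotMod (ptIdeal p hp)) = 1)
    {V L : X.Modules} (hV : FlatMod.IsFinLocFree V) (hL : PicF.IsInvertible L) :
    Curv2.euler k X ((hom V).obj L) = Curv2.euler k X ((hom V).obj ((DCoh.tensorBi.obj L).obj (ptMod p hp))) + rk V ∧
    Module.finrank k (Coh.HH X ((hom V).obj L) 0) ≤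
      Module.finrank k (Coh.HH X ((hom V).obj ((DCoh.tensorBi.obj L).obj (ptMod p hp))) 0) + rk V := by
  haveI := CurveCohLib.isNoetherian_of_proper (k := k) (X := X)
  haveI := SheafHomY.preservesFiniteColimits_hom hV
  haveI := SheafHomY.preservesFiniteLimits_hom V
  have hL1 := InvEnd.isFinLocFreeOfRank_one hL
  have hLf := isFinLocFree_of_rank hL1
  have hI := isFinLocFree_of_rank (InvEnd.isFinLocFreeOfRank_one (isInvertible_ptMod p hp k hdim))
  let Q := (DCoh.tensorBi.obj L).obj (ClSub.quotMod (ptIdeal p hp))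
  have hQc : Coh.IsCoh Q := CurveTensor.isCoh_tensor hLf (isCoh_quot p hp k)
  have hQs : ∀ x ∈ CohB1.support Q, IsClosed ({x} : Set X) := fun x hx =>
    closed_support p hp x (CurveTensor.support_tensor_subset hx)
  have hQe : Curv2.euler k X Q = 1 := by
    rw [CurveTensor.euler_tensor_torsion k hL1 (isCoh_quot p hp k) (closed_support p hp), he]
    rfl
  have hd : FlatMod.IsFinLocFreeOfRank (rk V) (SheafHomY.dual V) := by
    simpa using isFinLocFreeOfRank_hom (isFinLocFreeOfRank_rk hV)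
      (InvEnd.isFinLocFreeOfRank_one (CurveDeg.isInvertible_structureModule (X := X)))
  haveI := SheafHomY.isIso_theta hV Q
  let eQ : (DCoh.tensorBi.obj (SheafHomY.dual V)).obj Q ≅ (hom V).obj Q :=
    CurveTensor.commIso _ _ ≪≫ asIso (SheafHomY.theta V Q)
  have hc3 : Coh.IsCoh ((DCoh.tensorBi.obj (SheafHomY.dual V)).obj Q) :=
    CurveTensor.isCoh_tensor (isFinLocFree_of_rank hd) hQc
  have hs3 : ∀ x ∈ CohB1.support ((DCoh.tensorBi.obj (SheafHomY.dual V)).obj Q), IsClosed ({x} : Set X) :=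
    fun x hx => hQs x (CurveTensor.support_tensor_subset hx)
  have he3 : Curv2.euler k X ((hom V).obj Q) = rk V := by
    rw [← CurveCohLib.euler_congr (k := k) eQ, CurveTensor.euler_tensor_torsion k hd hQc hQs, hQe, mul_one]
  have hh3 : Module.finrank k (Coh.HH X ((hom V).obj Q) 0) = rk V := by
    have h0 := CurveCohLib.euler_eq_finrank_zero (k := k) hc3 hs3
    rw [CurveTensor.euler_tensor_torsion k hd hQc hQs, hQe, mul_one] at h0
    rw [← (CurveCohLib.hhEquiv (k := k) eQ 0).finrank_eq]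
    exact_mod_cast h0.symm
  have hS := (shortExact_of_iso_mid _ _ _
      (CurveTensor.shortExact_tensor hLf _ _ _ (shortExact_pt p hp)) (KFlatLib.tensorUnitIso L))
  have hS' := hS.map_of_exact (hom V)
  have c1 := coh_of_free k (SheafHomX.isFinLocFree_hom hV (KFlatLib.isFinLocFree_tensor hLf hI))
  have c2 := coh_of_free k (SheafHomX.isFinLocFree_hom hV hLf)
  have c3 : Coh.IsCoh ((hom V).obj Q) := SheafHomX.isCoh_of_iso eQ hc3
  refine ⟨?_, ?_⟩
  · have := euler_add' k _ _ _ hS' c1 c2 c3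
    rw [he3] at this
    linarith
  · have := CurveDuality.finrank_h0_mid_le k hS' c2 c3
    exact this.trans (by rw [← hh3]; rfl)

include hg hO in
/-- A bundle whose subbundles have slope below `deg L - 1` embeds into a power of `L`. -/
theorem exists_mono_sigma (σ : Spec (CommRingCat.of k) ⟶ X) (hσ : σ ≫ (X ↘ Spec (CommRingCat.of k)) = 𝟙 _)
    {F L : X.Modules} (hF : FlatMod.IsFinLocFree F) (hL : PicF.IsInvertible L)
    (h : ∀ (G : X.Modules) (i : G ⟶ F), Mono i → FlatMod.IsFinLocFree G → 0 < rk G →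
      dg k G < (dg k L - 1) * rk G) :
    ∃ (M : ℕ), 0 < M ∧ ∃ j : F ⟶ ∐ fun _ : Fin M => L, Mono j := by
  classical
  haveI := CurveCohLib.isNoetherian_of_proper (k := k) (X := X)
  haveI := Abelian.hasFiniteBiproducts (C := X.Modules)
  obtain ⟨p, hp, he⟩ := exists_rational_pt k σ hσ
  have hI := isInvertible_ptMod p hp k hdim
  have hL' := H23.PicMul.isInvertible_tensor hL hI
  have hLf := isFinLocFree_of_rank (InvEnd.isFinLocFreeOfRank_one hL)
  set L' := (DCoh.tensorBi.obj L).obj (ptMod p hp) with hL'def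
  have hL'1 : FlatMod.IsFinLocFreeOfRank 1 L' := InvEnd.isFinLocFreeOfRank_one hL'
  have hL'f := isFinLocFree_of_rank hL'1
  have hrL : rk L' = 1 := rk_eq hL'1
  have hdL : dg k L' = dg k L - 1 := by
    obtain ⟨-, h2⟩ := CurveDuality.dg_tensor_line k hdim hL
      (isFinLocFree_of_rank (InvEnd.isFinLocFreeOfRank_one hI))
    rw [h2, rk_eq (InvEnd.isFinLocFreeOfRank_one hI), ← deg_eq_dg k (InvEnd.isFinLocFreeOfRank_one hI),
      deg_ptMod_of_euler k hdim he, deg_eq_dg k (InvEnd.isFinLocFreeOfRank_one hL)]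
    push_cast
    ring
  have hzero : ∀ φ : L' ⟶ F, φ = 0 := by
    refine hom_eq_zero_of_slopes k hdim hL'f hF (fun G i hi hG => ?_) fun G i hi hG hG0 => ?_
    · haveI := hi
      have hle := rk_le_of_mono k i (coh_of_free k hL'f)
      rw [hrL] at hle
      rcases Nat.eq_zero_or_pos (rk G) with h0 | h0
      · rw [dg_eq_zero_of_isZero k (isZero_of_rk_zero hG h0), h0]; simp
      · have h1 : rk G = 1 := by omega
        rw [hrL, h1]
        by_cases hi' : IsIso i
        · haveI := hi'; rw [dg_congr k (asIso i)]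
        · have := dg_lt_of_rk_eq k hdim.le i (coh_of_free k hG) (coh_of_free k hL'f) (by omega) hi'
          omega
    · rw [hrL, hdL, Nat.cast_one, mul_one]
      exact h G i hi hG hG0
  let e := LinearEquiv.ofBijective _ (evalOneLin_bijective k ((hom F).obj L))
  haveI : Module.Finite k (Coh.HH X ((hom F).obj L) 0) :=
    CurveCohLib.finite_HH (k := k) (coh_of_free k (SheafHomX.isFinLocFree_hom hF hLf)) 0
  let v := Module.finBasis k (Coh.HH X ((hom F).obj L) 0)
  let b := Module.finrank k (Coh.HH X ((hom F).obj L) 0)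
  let M := b + 1
  let φ : Fin M → (F ⟶ L) := fun i => if h : (i : ℕ) < b then ev F L (e.symm (v ⟨i, h⟩)) else 0
  refine ⟨M, Nat.succ_pos _, ∑ i, φ i ≫ Sigma.ι (fun _ : Fin M => L) i, ?_⟩
  set j := ∑ i, φ i ≫ Sigma.ι (fun _ : Fin M => L) i
  have hsig : FlatMod.IsFinLocFree (∐ fun _ : Fin M => L) := isFinLocFree_of_rank (isFinLocFreeOfRank_sigma hL M)
  obtain ⟨I, π, j', hj', hπ, hfac, hK, hI', hr, -, -, -⟩ := exists_decomp k hdim.le hF hsig j
  haveI := hπ
  haveI := hj'
  have hfactor : ∀ i, ∃ ψ : I ⟶ L, π ≫ ψ = φ i := fun i => by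
    refine ⟨j' ≫ Sigma.desc (fun i' => if i' = i then 𝟙 L else 0), ?_⟩
    rw [← Category.assoc, hfac, Preadditive.sum_comp, Finset.sum_eq_single i]
    · simp
    · intro i' _ hi'
      simp [hi']
    · simp
  have hsurj : Function.Surjective (Canon.HHlin k ((homMap π).app L) 0) := by
    rw [← LinearMap.range_eq_top, eq_top_iff, ← v.span_eq, Submodule.span_le]
    rintro _ ⟨i, rfl⟩
    obtain ⟨ψ, hψ⟩ := hfactor ⟨i, lt_trans i.2 (Nat.lt_succ_self _)⟩
    refine ⟨evalOneLin k _ ((ev I L).symm ψ), ?_⟩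
    have h1 : (ev I L).symm ψ ≫ (homMap π).app L = e.symm (v i) := by
      apply (ev F L).injective
      rw [ev_homMap, AddEquiv.apply_symm_apply, hψ]
      show φ _ = _
      simp only [φ]
      rw [dif_pos i.2]
    calc Canon.HHlin k ((homMap π).app L) 0 (evalOneLin k _ ((ev I L).symm ψ))
        = evalOneLin k _ ((ev I L).symm ψ ≫ (homMap π).app L) := PnDual.HHlin_comp _ _ _ _
      _ = e (e.symm (v i)) := by rw [h1]; rfl
      _ = v i := e.apply_symm_apply _
  obtain ⟨hχ, -⟩ := exists_hom_quot k hdim he hF hL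
  obtain ⟨-, hIle⟩ := exists_hom_quot k hdim he hI' hL
  obtain ⟨ψ, hψ⟩ := mono_homMap π L'
  have hcFL := coh_of_free k (SheafHomX.isFinLocFree_hom hF hLf)
  have hcFL' := coh_of_free k (SheafHomX.isFinLocFree_hom hF hL'f)
  haveI := CurveCohLib.finite_HH (k := k) hcFL' 0
  haveI := CurveCohLib.finite_HH (k := k) (coh_of_free k (SheafHomX.isFinLocFree_hom hI' hLf)) 0
  have h1 := LinearMap.finrank_le_finrank_of_surjective hsurj
  have h2 := TwistSum.finrank_le_of_mono (k := k) ψ
  have h3 := euler_le_h0 k hdim.le hcFL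
  haveI := subsingleton_h1_hom k hdim hg hO hL'f hF hzero
  have h4 : Curv2.euler k X ((hom F).obj L') = Module.finrank k (Coh.HH X ((hom F).obj L') 0) := by
    rw [CurveRR.euler_eq_h0_sub_h1 k hdim.le hcFL'.1,
      Module.finrank_zero_of_subsingleton (R := k) (M := Coh.HH X ((hom F).obj L') 1)]
    simp
  rw [← hL'def] at hχ hIle
  have hK0 : rk (kernel j) = 0 := by omega
  exact Preadditive.mono_of_kernel_zero ((isZero_of_rk_zero hK hK0).eq_of_src _ _)

include hg in
theorem exists_mono_sigma' (σ : Spec (CommRingCat.of k) ⟶ X) (hσ : σ ≫ (X ↘ Spec (CommRingCat.of k)) = 𝟙 _)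
    {F L : X.Modules} {r : ℕ} (hr : 0 < r) (hF : FlatMod.IsFinLocFreeOfRank r F) (hL : PicF.IsInvertible L)
    (hFss : ∀ (G : X.Modules) (r' : ℕ) (i : G ⟶ F), Mono i → 0 < r' → FlatMod.IsFinLocFreeOfRank r' G →
      Curv2.deg k X G r' * (r : ℤ) ≤ Curv2.deg k X F r * (r' : ℤ))
    (hdeg : Curv2.deg k X F r < (Curv2.deg k X L 1 - 1) * (r : ℤ))
    (hO : Module.finrank k (Coh.HH X (Coh.structureModule X) 0) = 1) :
    ∃ (M : ℕ), 0 < M ∧ ∃ j : F ⟶ ∐ fun _ : Fin M => L, Mono j := by
  refine exists_mono_sigma k hdim hg hO σ hσ (isFinLocFree_of_rank hF) hL fun G i hi hG hG0 => ?_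
  have h1 := hFss G _ i hi hG0 (isFinLocFreeOfRank_rk hG)
  rw [deg_eq_dg k (isFinLocFreeOfRank_rk hG), deg_eq_dg k hF] at h1
  rw [deg_eq_dg k (InvEnd.isFinLocFreeOfRank_one hL), deg_eq_dg k hF] at hdeg
  have hG0' : (0 : ℤ) < rk G := by exact_mod_cast hG0
  have hr' : (0 : ℤ) < r := by exact_mod_cast hr
  nlinarith [mul_lt_mul_of_pos_left hdeg hG0']

/-- Subsheaves of sums of copies of a line bundle have at most its slope. -/
theorem dg_sub_sigma {N : X.Modules} (hN : PicF.IsInvertible N) : ∀ (n : ℕ) (G : X.Modules)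
    (g : G ⟶ ∐ fun _ : Fin n => N), Mono g → FlatMod.IsFinLocFree G → dg k G ≤ dg k N * rk G := by
  intro n
  induction n with
  | zero =>
    intro G g hg hG
    have hz : IsZero (∐ fun _ : Fin 0 => N) :=
      (IsZero.iff_id_eq_zero _).2 (Sigma.hom_ext _ _ fun j => Fin.elim0 j)
    haveI := hg
    have hGz : IsZero G := IsZero.of_mono g hz
    rw [dg_eq_zero_of_isZero k hGz, rk_eq_zero_of_isZero hGz]
    simp
  | succ n ih =>
    intro G g hg hG
    classical
    haveI := hg
    haveI := CurveCohLib.isNoetherian_of_proper (k := k) (X := X)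
    have hN1 := InvEnd.isFinLocFreeOfRank_one hN
    let p : (∐ fun _ : Fin (n + 1) => N) ⟶ N := Sigma.desc fun i => if i = Fin.last n then 𝟙 N else 0
    let q : (∐ fun _ : Fin (n + 1) => N) ⟶ ∐ fun _ : Fin n => N :=
      Sigma.desc fun i => if h : (i : ℕ) < n then Sigma.ι (fun _ : Fin n => N) ⟨i, h⟩ else 0
    let inc : (∐ fun _ : Fin n => N) ⟶ ∐ fun _ : Fin (n + 1) => N :=
      Sigma.desc fun i => Sigma.ι (fun _ : Fin (n + 1) => N) i.castSucc
    have hid : p ≫ Sigma.ι (fun _ : Fin (n + 1) => N) (Fin.last n) + q ≫ inc = 𝟙 _ := by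
      refine Sigma.hom_ext _ _ fun i => ?_
      rw [Preadditive.comp_add, Category.comp_id]
      by_cases hi : (i : ℕ) < n
      · have hne : i ≠ Fin.last n := fun h => by rw [h] at hi; simp at hi
        simp [p, q, inc, hi, hne]
      · have he : i = Fin.last n := Fin.ext (by have := i.2; simp only [Fin.val_last]; omega)
        subst he
        simp [p, q, inc]
    obtain ⟨I, π, j, hj, hπ, hfac, hK, hI, hr, hd, -, -⟩ :=
      exists_decomp k hdim.le hG (isFinLocFree_of_rank hN1) (g ≫ p)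
    haveI := hj
    haveI : Mono (kernel.ι (g ≫ p) ≫ g ≫ q) := by
      refine Preadditive.mono_of_cancel_zero _ fun u hu => ?_
      rw [← cancel_mono (kernel.ι (g ≫ p) ≫ g), zero_comp, ← Category.comp_id ((u ≫ _)), ← hid,
        Preadditive.comp_add]
      simp only [Category.assoc] at hu ⊢
      rw [reassoc_of% (show u ≫ kernel.ι (g ≫ p) ≫ g ≫ p = 0 by rw [kernel.condition, comp_zero]),
        zero_comp, zero_add, reassoc_of% hu, zero_comp]
    have h1 := ih _ (kernel.ι (g ≫ p) ≫ g ≫ q) inferInstance hK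
    have h2 : dg k I ≤ dg k N * rk I := by
      have hNc := coh_of_free k (isFinLocFree_of_rank hN1)
      have hle := rk_le_of_mono k j hNc
      rw [rk_eq hN1] at hle
      rcases Nat.eq_zero_or_pos (rk I) with h0 | h0
      · rw [dg_eq_zero_of_isZero k (isZero_of_rk_zero hI h0), h0]; simp
      · have e1 : rk I = 1 := by omega
        rw [e1, Nat.cast_one, mul_one]
        by_cases hi' : IsIso j
        · haveI := hi'; rw [dg_congr k (asIso j)]
        · exact (dg_lt_of_rk_eq k hdim.le j (coh_of_free k hI) hNc (by rw [e1, rk_eq hN1]) hi').le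
    have hr' : (rk G : ℤ) = rk (kernel (g ≫ p)) + rk I := by exact_mod_cast hr
    rw [hd, hr']
    linarith

omit [IsIntegral X] [IsProper (X ↘ Spec (CommRingCat.of k))] [Smooth (X ↘ Spec (CommRingCat.of k))] hdim in
/-- Sums of copies multiply under the tensor product. -/
theorem nonempty_tensor_sigma (A B : X.Modules) (m n : ℕ) :
    Nonempty ((DCoh.tensorBi.obj (∐ fun _ : Fin m => A)).obj (∐ fun _ : Fin n => B) ≅
      ∐ fun _ : Fin (m * n) => (DCoh.tensorBi.obj A).obj B) := by
  have hr : ∀ Z : X.Modules, PreservesColimitsOfSize.{0, 0} ((DCoh.tensorBi (X := X)).obj Z) := fun Z => by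
    haveI : PreservesColimitsOfSize.{u, u} ((DCoh.tensorBi (X := X)).obj Z) :=
      ⟨fun {K} _ => preservesColimitsOfShape_of_natIso ((KFlatLib.tensorBiFlipIso X).app Z)⟩
    exact preservesSmallestColimits_of_preservesColimits _
  haveI := hr (∐ fun _ : Fin m => A)
  haveI : PreservesColimitsOfSize.{0, 0} (ten B) := by
    haveI : PreservesColimitsOfSize.{u, u} (ten B) := inferInstance
    exact preservesSmallestColimits_of_preservesColimits _
  exact ⟨PreservesCoproduct.iso ((DCoh.tensorBi (X := X)).obj (∐ fun _ : Fin m => A)) (fun _ : Fin n => B) ≪≫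
    (Sigma.mapIso fun _ : Fin n => PreservesCoproduct.iso (ten B) fun _ : Fin m => A) ≪≫
    sigmaSigmaIso (fun _ : Fin n => Fin m) (fun _ _ => (DCoh.tensorBi.obj A).obj B) ≪≫
    Sigma.whiskerEquiv (f := fun _ : Σ _ : Fin n, Fin m => (DCoh.tensorBi.obj A).obj B)
      (g := fun _ : Fin (m * n) => (DCoh.tensorBi.obj A).obj B)
      ((Equiv.sigmaEquivProd _ _).trans ((Equiv.prodComm _ _).trans finProdFinEquiv)) (fun _ => Iso.refl _)⟩

include hg in
/-- Subbundles of a tensor product of semistable bundles: slope at most four above the expected. -/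
theorem slope_sub_tensor_le (hO : Module.finrank k (Coh.HH X (Coh.structureModule X) 0) = 1)
    (σ : Spec (CommRingCat.of k) ⟶ X) (hσ : σ ≫ (X ↘ Spec (CommRingCat.of k)) = 𝟙 _)
    {F F' : X.Modules} {r s : ℕ} (hr : 0 < r) (hs : 0 < s) (hF : FlatMod.IsFinLocFreeOfRank r F)
    (hF' : FlatMod.IsFinLocFreeOfRank s F')
    (hFss : ∀ (G : X.Modules) (r' : ℕ) (i : G ⟶ F), Mono i → 0 < r' → FlatMod.IsFinLocFreeOfRank r' G →
      Curv2.deg k X G r' * (r : ℤ) ≤ Curv2.deg k X F r * (r' : ℤ))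
    (hF'ss : ∀ (G : X.Modules) (r' : ℕ) (i : G ⟶ F'), Mono i → 0 < r' → FlatMod.IsFinLocFreeOfRank r' G →
      Curv2.deg k X G r' * (s : ℤ) ≤ Curv2.deg k X F' s * (r' : ℤ))
    {G : X.Modules} {t : ℕ} (hG : FlatMod.IsFinLocFreeOfRank t G) (i : G ⟶ (DCoh.tensorBi.obj F).obj F') [Mono i] :
    Curv2.deg k X G t * (r : ℤ) * (s : ℤ) ≤
      (t : ℤ) * (4 * (r : ℤ) * (s : ℤ) + Curv2.deg k X F r * (s : ℤ) + Curv2.deg k X F' s * (r : ℤ)) := by
  haveI := CurveCohLib.isNoetherian_of_proper (k := k) (X := X)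
  have hrz : (0 : ℤ) < r := by exact_mod_cast hr
  have hsz : (0 : ℤ) < s := by exact_mod_cast hs
  set d := Curv2.deg k X F r
  set d' := Curv2.deg k X F' s
  obtain ⟨L, hL, hLd⟩ := exists_line_deg k hdim σ hσ (d / r + 2)
  obtain ⟨L', hL', hLd'⟩ := exists_line_deg k hdim σ hσ (d' / s + 2)
  obtain ⟨M, -, j, hj⟩ := exists_mono_sigma' k hdim hg σ hσ hr hF hL hFss (by
    rw [deg_eq_dg k (InvEnd.isFinLocFreeOfRank_one hL), hLd]
    nlinarith [Int.emod_lt_of_pos d hrz, Int.mul_ediv_add_emod d r]) hO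
  obtain ⟨M', -, j', hj'⟩ := exists_mono_sigma' k hdim hg σ hσ hs hF' hL' hF'ss (by
    rw [deg_eq_dg k (InvEnd.isFinLocFreeOfRank_one hL'), hLd']
    nlinarith [Int.emod_lt_of_pos d' hsz, Int.mul_ediv_add_emod d' s]) hO
  obtain ⟨e⟩ := nonempty_tensor_sigma L L' M M'
  haveI := hj
  haveI := hj'
  haveI := SheafHomY.preservesMonomorphisms_ten (isFinLocFree_of_rank hF')
  haveI : Mono ((ten F').map j) := inferInstance
  haveI : Mono ((DCoh.tensorBi.obj (∐ fun _ : Fin M => L)).map j') :=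
    (CurveTensor.shortExact_tensor (isFinLocFree_of_rank (isFinLocFreeOfRank_sigma hL M)) _ _ _
      (shortExact_cokernel_of_mono j')).mono_f
  have hN := H23.PicMul.isInvertible_tensor hL hL'
  have h := dg_sub_sigma k hdim hN _ G
    (i ≫ (ten F').map j ≫ (DCoh.tensorBi.obj (∐ fun _ : Fin M => L)).map j' ≫ e.hom) inferInstance
    (isFinLocFree_of_rank hG)
  obtain ⟨-, h2⟩ := CurveDuality.dg_tensor_line k hdim hL (isFinLocFree_of_rank (InvEnd.isFinLocFreeOfRank_one hL'))
  rw [rk_eq (InvEnd.isFinLocFreeOfRank_one hL'), deg_eq_dg k (InvEnd.isFinLocFreeOfRank_one hL), hLd, hLd'] at h2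
  change dg k (CohB1.tensorMod L L') = _ at h2
  rw [h2, rk_eq hG, ← deg_eq_dg k hG] at h
  push_cast at h
  have h1 : d / (r : ℤ) * r ≤ d := Int.ediv_mul_le _ hrz.ne'
  have h1' : d' / (s : ℤ) * s ≤ d' := Int.ediv_mul_le _ hsz.ne'
  have ht : (0 : ℤ) ≤ t := Int.natCast_nonneg t
  nlinarith [mul_le_mul_of_nonneg_right h (mul_nonneg hrz.le hsz.le),
    mul_le_mul_of_nonneg_left (mul_le_mul_of_nonneg_right h1 hsz.le) ht,
    mul_le_mul_of_nonneg_left (mul_le_mul_of_nonneg_right h1' hrz.le) ht]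

end Groth.Agent.GenusOneSS
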